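import Cfsg.Agent.FischerThm.Orth.Transvections
import Cfsg.Agent.Dickson.Matrix

/-!
# Fischer's theorem, orthogonal cases: the numbers in dimension eight
-/

set_option autoImplicit false
set_option linter.unusedSectionVars false

namespace CfsgLib.FischerThm.Orth

open Module QuadraticMap CfsgLib.Dickson CfsgLib.FormTranspositions CfsgLib.FischerTypes

variable {V : Type*} [AddCommGroup V] [Module (ZMod 2) V] [FiniteDimensional (ZMod 2) V]
  {Q : QuadraticForm (ZMod 2) V}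

theorem ncard_rset (hQ : (polarBilin Q).Nondegenerate) : (rset Q).ncard = {v | Q v = 1}.ncard := by
  symm
  refine Set.ncard_congr (fun v hv => refl v hv) (fun v hv => (mem_rset hQ).2 ⟨v, hv, rfl⟩)
    (fun v w hv hw h => refl_inj hQ h) fun g hg => ?_
  obtain ⟨x, hx, rfl⟩ := (mem_rset hQ).1 hg
  exact ⟨x, hx, rfl⟩

theorem ncard_perp_rset (hQ : (polarBilin Q).Nondegenerate) {x : V} (hx : Q x = 1) :
    (perp (rset Q) (refl x hx)).ncard = {v | Q v = 1 ∧ polar Q x v = 0 ∧ v ≠ x}.ncard := by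
  symm
  refine Set.ncard_congr (fun v hv => refl v hv.1) ?_ (fun v w hv hw h => refl_inj hQ h) fun g hg => ?_
  · rintro v ⟨hv, hp, hne⟩
    exact ⟨(mem_rset hQ).2 ⟨v, hv, rfl⟩, fun e => hne (refl_inj hQ e), (refl_commute_iff hQ hx hv).2 hp⟩
  · obtain ⟨v, hv, rfl⟩ := (mem_rset hQ).1 hg.1
    exact ⟨v, ⟨hv, (refl_commute_iff hQ hx hv).1 hg.2.2, fun e => hg.2.1 (refl_congr _ hx e)⟩, rfl⟩

/-- The parameters of a matrix model. -/
theorem params_mset {ι : Type} [Fintype ι] [DecidableEq ι] (Q : QuadraticForm (ZMod 2) (ι → ZMod 2))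
    (f : (ι → ZMod 2) → ZMod 2) (hf : ⇑Q = f) (hQ : (polarBilin Q).Nondegenerate)
    (x : ι → ZMod 2) (hx : f x = 1) (k l : ℕ)
    (hk : (Finset.univ.filter fun v => f v = 1).card = k)
    (hl : (Finset.univ.filter fun v => f v = 1 ∧ f (x + v) = f x + f v ∧ v ≠ x).card = l) :
    (mset f).ncard = k ∧ ∃ p ∈ mset f, (perp (mset f) p).ncard = l := by
  obtain ⟨e, he⟩ := dIso_mset Q f hf
  subst hf
  refine ⟨?_, e.symm (refl x hx), ?_, ?_⟩
  · rw [← Set.ncard_image_of_injective _ e.injective, he, ncard_rset hQ, Set.ncard_eq_toFinset_card',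
      Set.toFinset_setOf, hk]
  · obtain ⟨p, hp, hpe⟩ : refl x hx ∈ e '' mset ⇑Q := he ▸ (mem_rset hQ).2 ⟨x, hx, rfl⟩
    rw [← hpe, e.symm_apply_apply]; exact hp
  · rw [← ncard_perp_eq e, he, e.apply_symm_apply, ncard_perp_rset hQ hx, Set.ncard_eq_toFinset_card',
      Set.toFinset_setOf, ← hl]
    congr 1
    refine Finset.filter_congr fun v _ => ?_
    rw [polar, sub_sub, sub_eq_zero]

set_option maxRecDepth 4000 in
theorem params_oMinus_three : (oMinusD 3).ncard = 136 ∧ ∃ p ∈ oMinusD 3, (perp (oMinusD 3) p).ncard = 63 :=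
  params_mset (minusForm 3 (ZMod 2) 1 1) _ (minusForm_coe 3 1 1)
    (minusForm_nondegenerate 3 (by decide))
    (Sum.elim 0 ![1, 0]) (by decide +kernel) 136 63 (by decide +kernel) (by decide +kernel)

set_option maxRecDepth 4000 in
theorem params_oPlus_four : (oPlusD 4).ncard = 120 ∧ ∃ p ∈ oPlusD 4, (perp (oPlusD 4) p).ncard = 63 :=
  params_mset (plusForm 4 (ZMod 2)) _ (plusForm_coe 4) (plusForm_nondegenerate 4)
    (Sum.elim ![1, 0, 0, 0] ![1, 0, 0, 0]) (by decide +kernel) 120 63 (by decide +kernel) (by decide +kernel)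

theorem ncard_symD_ten : (symD 10).ncard = 45 := by
  have h : symD 10 = (fun p : {p : Fin 10 × Fin 10 // p.1 < p.2} => Equiv.swap p.1.1 p.1.2) '' Set.univ := by
    ext σ
    constructor
    · rintro ⟨a, b, hab, rfl⟩
      rcases lt_or_gt_of_ne hab with h | h
      · exact ⟨⟨(a, b), h⟩, trivial, rfl⟩
      · exact ⟨⟨(b, a), h⟩, trivial, Equiv.swap_comm b a⟩
    · rintro ⟨⟨⟨a, b⟩, h⟩, -, rfl⟩
      exact ⟨a, b, h.ne, rfl⟩
  rw [h, Set.ncard_image_of_injective, Set.ncard_univ, Nat.card_eq_fintype_card]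
  · decide +kernel
  · rintro ⟨⟨a, b⟩, hab⟩ ⟨⟨c, d⟩, hcd⟩ he
    have h1 := DFunLike.congr_fun he a
    have h2 := DFunLike.congr_fun he b
    simp only [Equiv.swap_apply_left, Equiv.swap_apply_right] at h1 h2
    rw [Equiv.swap_apply_def] at h1 h2
    have : a < b := hab
    have : c < d := hcd
    split_ifs at h1 h2 <;> first | omega | (subst_vars; rfl)

end CfsgLib.FischerThm.Orth
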