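import Cfsg.Agent.FischerThm.Targets

/-!
# Fischer's theorem, orthogonal cases: transport of systems and neighbourhoods
-/

set_option autoImplicit false

universe u v w

namespace CfsgLib.FischerThm.Orth

open Cfsg CfsgLib.FischerTypes

/-- An embedded centreless class: the system of its image is the system itself. -/
theorem dIso_sImg_image {G : Type u} [Group G] {H : Type v} [Group H] (φ : H →* G)
    (hφ : Function.Injective φ) (E : Set H) (hgen : Subgroup.closure E = ⊤) (hZ : Subgroup.center H = ⊥) :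
    DIso (sImg (φ '' E)) E := by
  have hcl : Subgroup.closure (φ '' E) = φ.range := by
    rw [← MonoidHom.map_closure, hgen, ← MonoidHom.range_eq_map]
  let e : H ≃* ↥(Subgroup.closure (φ '' E)) :=
    (MonoidHom.ofInjective hφ).trans (MulEquiv.subgroupCongr hcl.symm)
  have hval : ∀ x, (e x : G) = φ x := fun x => rfl
  have hc : Subgroup.center ↥(Subgroup.closure (φ '' E)) = ⊥ := by
    refine (Subgroup.eq_bot_iff_forall _).2 fun z hz => ?_
    have h1 : e.symm z ∈ Subgroup.center H := Subgroup.mem_center_iff.2 fun x => e.injective (by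
      rw [map_mul, map_mul, e.apply_symm_apply]; exact Subgroup.mem_center_iff.1 hz (e x))
    rw [hZ, Subgroup.mem_bot] at h1
    rw [← e.apply_symm_apply z, h1, map_one]
  let q : H →* SQuot (φ '' E) := (QuotientGroup.mk' _).comp e.toMonoidHom
  have hq : Function.Bijective q := by
    refine ⟨(injective_iff_map_eq_one _).2 fun x hx => ?_, (QuotientGroup.mk'_surjective _).comp e.surjective⟩
    have : e x ∈ Subgroup.center ↥(Subgroup.closure (φ '' E)) := (QuotientGroup.eq_one_iff _).1 hx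
    rw [hc, Subgroup.mem_bot] at this
    exact e.injective (this.trans (map_one e).symm)
  refine ⟨(MulEquiv.ofBijective q hq).symm, ?_⟩
  apply Set.Subset.antisymm
  · rintro _ ⟨_, ⟨x, hx, rfl⟩, rfl⟩
    obtain ⟨y, hy, hyx⟩ := (hx : (x : G) ∈ φ '' E)
    rw [show x = e y from Subtype.ext hyx.symm]
    rwa [show (MulEquiv.ofBijective q hq).symm (QuotientGroup.mk (e y)) = y from
      (MulEquiv.ofBijective q hq).symm_apply_apply y]
  · intro y hy
    exact ⟨q y, ⟨e y, ⟨y, hy, (hval y).symm⟩, rfl⟩, (MulEquiv.ofBijective q hq).symm_apply_apply y⟩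

section
variable {G : Type u} [Group G] {H : Type v} [Group H]

theorem image_perp (e : G ≃* H) (D : Set G) (a : G) : e '' perp D a = perp (e '' D) (e a) := by
  apply Set.Subset.antisymm
  · rintro _ ⟨y, ⟨h1, h2, h3⟩, rfl⟩
    exact ⟨Set.mem_image_of_mem _ h1, fun h => h2 (e.injective h), h3.map e⟩
  · rintro _ ⟨⟨y, hy, rfl⟩, h2, h3⟩
    refine ⟨y, ⟨hy, fun h => h2 (by rw [h]), ?_⟩, rfl⟩
    have := h3.map e.symm
    simpa using this

theorem perp_mem_of_conj {D : Set G} (hconj : ∀ g : G, ∀ x ∈ D, g * x * g⁻¹ ∈ D) (g a : G) :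
    perp D (g * a * g⁻¹) = MulAut.conj g '' perp D a := by
  have hD : MulAut.conj g '' D = D := by
    refine Set.Subset.antisymm (by rintro _ ⟨x, hx, rfl⟩; exact hconj g x hx) fun x hx => ?_
    exact ⟨g⁻¹ * x * g, by simpa using hconj g⁻¹ x hx, by simp [mul_assoc]⟩
  rw [image_perp (MulAut.conj g) D a, hD, MulAut.conj_apply]

theorem isTTG_of_class {D : Set G} (h : IsThreeTranspositionClass D) : IsThreeTranspositionGroup D := by
  obtain ⟨h1, ⟨d, -, hcl⟩, h3⟩ := h
  refine ⟨h1, fun g x hx => ?_, h3⟩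
  rw [hcl] at hx ⊢
  exact IsConj.trans hx (isConj_iff.2 ⟨g, rfl⟩)

theorem pCore_eq_bot_iff {p : ℕ} {X : Type w} [Group X] :
    pCore p X = ⊥ ↔ ∀ N : Subgroup X, N.Normal → IsPGroup p N → N = ⊥ := by
  rw [pCore, sSup_eq_bot]
  exact ⟨fun h N h1 h2 => h N ⟨h1, h2⟩, fun h N hN => h N hN.1 hN.2⟩

/-- Goodness only depends on the system. -/
theorem localGood_of_dIso {D : Set G} {E : Set H} (h : DIso D E) (hE : LocalGood E) : LocalGood D := by
  obtain ⟨e, rfl⟩ := h
  obtain ⟨⟨⟨ho, hp⟩, ⟨d, hd, hcl⟩, hgen⟩, hZ, h2, h3, ⟨b, hb, hne⟩⟩ := hE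
  refine ⟨⟨⟨fun a ha => ?_, fun a ha c hc => ?_⟩, ?_, ?_⟩, ?_, ?_, ?_, ?_⟩
  · rw [← MulEquiv.orderOf_eq e]; exact ho _ (Set.mem_image_of_mem _ ha)
  · rcases hp _ (Set.mem_image_of_mem e ha) _ (Set.mem_image_of_mem e hc) with h' | h'
    · exact Or.inl (e.injective (by rw [map_pow, map_mul, h', map_one]))
    · exact Or.inr (e.injective (by rw [map_pow, map_mul, h', map_one]))
  · obtain ⟨d', hd', rfl⟩ := hd
    refine ⟨d', hd', Set.ext fun x => ?_⟩
    rw [← e.injective.mem_set_image (s := D) (a := x), hcl]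
    show IsConj (e d') (e x) ↔ IsConj d' x
    exact ⟨fun h => by simpa using MonoidHom.map_isConj e.symm.toMonoidHom h,
      fun h => by simpa using MonoidHom.map_isConj e.toMonoidHom h⟩
  · refine Subgroup.map_injective (f := e.toMonoidHom) e.injective ?_
    rw [MonoidHom.map_closure, Subgroup.map_top_of_surjective _ e.surjective]
    exact hgen
  · refine (Subgroup.eq_bot_iff_forall _).2 fun z hz => e.injective ?_
    have : e z ∈ Subgroup.center H := Subgroup.mem_center_iff.2 fun y => by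
      obtain ⟨y, rfl⟩ := e.surjective y
      rw [← map_mul, ← map_mul, Subgroup.mem_center_iff.1 hz y]
    rw [hZ, Subgroup.mem_bot] at this
    rw [this, map_one]
  all_goals try
    (refine pCore_eq_bot_iff.2 fun N hN hNp => ?_
     have hK : N.map e.toMonoidHom = ⊥ := by
       first
         | exact pCore_eq_bot_iff.1 h2 _ (hN.map _ e.surjective) (hNp.map e.toMonoidHom)
         | exact pCore_eq_bot_iff.1 h3 _ (hN.map _ e.surjective) (hNp.map e.toMonoidHom)
     exact (Subgroup.map_eq_bot_iff_of_injective N e.injective).1 hK)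
  obtain ⟨b', hb', rfl⟩ := hb
  rw [← image_perp] at hne
  exact ⟨b', hb', Set.Nonempty.of_image hne⟩

/-- Neighbourhoods have the same size. -/
theorem ncard_perp_eq (e : G ≃* H) (D : Set G) (a : G) :
    (perp (e '' D) (e a)).ncard = (perp D a).ncard := by
  rw [← image_perp, Set.ncard_image_of_injective _ e.injective]

theorem ncard_sImg_perp {D : Set G} (hD : IsThreeTranspositionGroup D) {d : G} (hnc : NoCentralPerp D d) :
    (sImg (perp D d)).ncard = (perp D d).ncard := by
  have h : {x : ↥(Subgroup.closure (perp D d)) | (x : G) ∈ perp D d}.ncard = (perp D d).ncard := by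
    rw [← Set.ncard_image_of_injective _ Subtype.val_injective]
    congr 1
    exact Set.ext fun x => ⟨by rintro ⟨y, hy, rfl⟩; exact hy, fun hx => ⟨⟨x, mem_perp_closure hx⟩, hx, rfl⟩⟩
  have inj : Set.InjOn (QuotientGroup.mk : ↥(Subgroup.closure (perp D d)) → SQuot (perp D d))
      {x : ↥(Subgroup.closure (perp D d)) | (x : G) ∈ perp D d} :=
    fun x hx y hy he => mk_inj hD hx hy (mk_ne_one hnc hx) he
  rw [sImg, inj.ncard_image, h]

theorem ncard_perp_sImg {D : Set G} (hD : IsThreeTranspositionGroup D) {d a : G} (hnc : NoCentralPerp D d)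
    (ha : a ∈ perp D d) :
    (perp (sImg (perp D d)) (QuotientGroup.mk (⟨a, mem_perp_closure ha⟩ : ↥(Subgroup.closure (perp D d))))).ncard =
      (perp D d ∩ perp D a).ncard := by
  have h : {x : ↥(Subgroup.closure (perp D d)) | (x : G) ∈ perp D d ∩ perp D a}.ncard =
      (perp D d ∩ perp D a).ncard := by
    rw [← Set.ncard_image_of_injective _ Subtype.val_injective]
    congr 1
    exact Set.ext fun x => ⟨by rintro ⟨y, hy, rfl⟩; exact hy, fun hx => ⟨⟨x, mem_perp_closure hx.1⟩, hx, rfl⟩⟩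
  have himg : perp (sImg (perp D d))
      (QuotientGroup.mk (⟨a, mem_perp_closure ha⟩ : ↥(Subgroup.closure (perp D d)))) =
      (QuotientGroup.mk : _ → SQuot (perp D d)) '' {x | (x : G) ∈ perp D d ∩ perp D a} := by
    apply Set.Subset.antisymm
    · rintro _ ⟨⟨x, hx, rfl⟩, hne, hc⟩
      refine ⟨x, ⟨hx, hx.1, fun he => hne ?_, (commute_mk_iff hD (x := ⟨a, mem_perp_closure ha⟩) ha hx).1 hc⟩, rfl⟩
      rw [show x = ⟨a, mem_perp_closure ha⟩ from Subtype.ext he]
    · rintro _ ⟨x, ⟨hx, hxa⟩, rfl⟩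
      refine ⟨⟨x, hx, rfl⟩, fun he => hxa.2.1 ?_, (commute_mk_iff hD (x := ⟨a, mem_perp_closure ha⟩) ha hx).2 hxa.2.2⟩
      exact congrArg Subtype.val (mk_inj hD hx ha (mk_ne_one hnc hx) he)
  have inj : Set.InjOn (QuotientGroup.mk : ↥(Subgroup.closure (perp D d)) → SQuot (perp D d))
      {x : ↥(Subgroup.closure (perp D d)) | (x : G) ∈ perp D d ∩ perp D a} :=
    fun x hx y hy he => mk_inj hD hx.1 hy.1 (mk_ne_one hnc hx.1) he
  rw [himg, inj.ncard_image, h]

end

end CfsgLib.FischerThm.Orth
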