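import Cfsg.Agent.FischerThm.Orth.Counts
import Cfsg.Agent.FischerThm.Component
import Cfsg.Agent.FischerThm.CommonLocal
import Cfsg.Agent.FischerThm.GoodOrth
import Cfsg.Agent.FischerThm.LocalOrth
import Cfsg.Agent.FischerThm.Srg

/-!
# Fischer's theorem, orthogonal cases: the recursion

The common partners `M` of a non-commuting pair split into components that are generic with an orthogonal
neighbourhood of the other type; in the two smallest cases they have 45 resp. 117 members, which divides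
neither possible number of common partners.
-/

set_option autoImplicit false

universe u v

namespace CfsgLib.FischerThm.Orth

open Cfsg CfsgLib.FischerTypes

/-- A set split into classes of equal size. -/
theorem dvd_ncard_of_classes {α : Type*} [Finite α] {n : ℕ} (C : α → Set α) (M : Set α)
    (hmem : ∀ a ∈ M, a ∈ C a) (hsub : ∀ a ∈ M, C a ⊆ M) (heq : ∀ a ∈ M, ∀ b ∈ C a, C b = C a)
    (hn : ∀ a ∈ M, (C a).ncard = n) : n ∣ M.ncard := by
  obtain ⟨k, hk⟩ : ∃ k, M.ncard = k := ⟨_, rfl⟩
  induction k using Nat.strong_induction_on generalizing M with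
  | _ k ih =>
    rcases M.eq_empty_or_nonempty with rfl | ⟨a, ha⟩
    · simp
    have hlt : (M \ C a).ncard < k :=
      hk ▸ Set.ncard_lt_ncard ⟨Set.sdiff_subset, fun h => (h ha).2 (hmem a ha)⟩ (Set.toFinite _)
    have hd : n ∣ (M \ C a).ncard := by
      refine ih _ hlt _ (fun b hb => hmem b hb.1) (fun b hb x hx => ⟨hsub b hb.1 hx, fun hxa => hb.2 ?_⟩)
        (fun b hb => heq b hb.1) (fun b hb => hn b hb.1) rfl
      rw [← heq a ha x hxa, heq b hb.1 x hx]
      exact hmem b hb.1
    rw [← Set.ncard_sdiff_add_ncard_of_subset (hsub a ha) (Set.toFinite _), hn a ha]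
    exact Nat.dvd_add hd dvd_rfl

variable {G : Type u} [Group G]

theorem comp_eq_of_mem {M : Set G} {a b : G} (hb : b ∈ comp M a) : comp M b = comp M a := by
  have : Std.Symm (MStep M) := ⟨fun _ _ h => ⟨h.2.1, h.1, h.2.2.symm⟩⟩
  exact Set.ext fun x => ⟨fun hx => ⟨hx.1, hb.2.trans hx.2⟩,
    fun hx => ⟨hx.1, (Relation.ReflTransGen.stdSymm.symm _ _ hb.2).trans hx.2⟩⟩

theorem ncard_dIso {K : Type v} [Group K] {D : Set G} {E : Set K} (h : DIso D E) : D.ncard = E.ncard := by
  obtain ⟨e, rfl⟩ := h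
  exact (Set.ncard_image_of_injective _ e.injective).symm

variable [Finite G] {D : Set G}

theorem exists_not_commute (h : Generic D) {d : G} (hd : d ∈ D) : ∃ c ∈ D, ¬ Commute d c := by
  by_contra hcon
  push Not at hcon
  have : d ∈ Subgroup.center G :=
    Transpositions.mem_center_of_commute_generators h.group.2.2 fun y hy => (hcon y hy).symm
  rw [h.center, Subgroup.mem_bot] at this
  exact FischerTypes.ne_one h.cls.1 hd this

/-- The components of the common partners, when their neighbourhoods are copies of a good model. -/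
theorem comps (h : Generic D) {K : Type} [Group K] {E : Set K} {L : Type} [Group L] {F : Set L}
    (hF : LocalGood F) (hloc : ∀ p ∈ E, ∀ q ∈ E, ¬ Commute p q → DIso (sImg (perp E p ∩ perp E q)) F)
    {d c : G} (hd : d ∈ D) (hE : DIso (sImg (perp D d)) E) (hc : c ∈ D) (hdc : ¬ Commute d c)
    {a : G} (ha : a ∈ perp D d ∩ perp D c) :
    Generic (sImg (comp (perp D d ∩ perp D c) a)) ∧
      (sImg (comp (perp D d ∩ perp D c) a)).ncard = (comp (perp D d ∩ perp D c) a).ncard ∧
        ∃ q ∈ sImg (comp (perp D d ∩ perp D c) a),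
          DIso (sImg (perp (sImg (comp (perp D d ∩ perp D c) a)) q)) F := by
  set M := perp D d ∩ perp D c with hM
  have hiso : ∀ b ∈ M, DIso (sImg (M ∩ perp D b)) F := fun b hb => by
    obtain ⟨p, hp, q, hq, hpq, hb'⟩ := commonLocal G D h K E d hd hE c hc hdc b hb
    exact hb'.trans (hloc p hp q hq hpq)
  obtain ⟨hgen, hn, hall⟩ := component G D h.group M (fun x hx => hx.1.1)
    (fun x hx y hy => ⟨h.perp_closed x hx.1 y hy.1, h.perp_closed x hx.2 y hy.2⟩)
    (fun b hb => localGood_of_dIso (hiso b hb) hF) a ha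
  have haC : a ∈ comp M a := ⟨ha, Relation.ReflTransGen.refl⟩
  refine ⟨hgen, hn, sMk _ haC, sMk_mem_sImg haC, ?_⟩
  obtain ⟨b, hb, hb'⟩ := hall _ (sMk_mem_sImg haC)
  exact hb'.trans (hiso b hb.1)

/-- The smallest cases: equal components whose size does not divide `k (k - 1 - l)`. -/
theorem false_of_count (h : Generic D) {K : Type} [Group K] {E : Set K} {d c : G} (hd : d ∈ D)
    (hE : DIso (sImg (perp D d)) E) (hc : c ∈ D) (hdc : ¬ Commute d c) {n k l : ℕ} (hk : E.ncard = k)
    {p : K} (hp : p ∈ E) (hl : (perp E p).ncard = l)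
    (hn : ∀ a ∈ perp D d ∩ perp D c, (comp (perp D d ∩ perp D c) a).ncard = n)
    (hdvd : ¬ n ∣ k * (k - 1 - l)) : False := by
  obtain ⟨e, he⟩ := hE
  obtain ⟨q, hq, rfl⟩ : p ∈ e '' sImg (perp D d) := he ▸ hp
  obtain ⟨a, ha, rfl⟩ := exists_sMk hq
  have hk' : k = (perp D d).ncard := by
    rw [← hk, ← he, Set.ncard_image_of_injective _ e.injective, ncard_sImg_perp h.group (h.noCentral hd)]
  have hl' : l = (perp D d ∩ perp D a).ncard := by
    rw [← hl, ← he, ncard_perp_eq e]
    exact ncard_perp_sImg h.group (h.noCentral hd) ha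
  obtain ⟨-, -, hμ, -⟩ := srg G D h d hd a ha c hc hdc k l _ hk' hl' rfl
  refine hdvd (dvd_trans ?_ hμ)
  exact dvd_ncard_of_classes (comp (perp D d ∩ perp D c)) _ (fun b hb => ⟨hb, Relation.ReflTransGen.refl⟩)
    (fun b _ x hx => hx.1) (fun b _ x hx => comp_eq_of_mem hx) hn

/-- A member of the common partners. -/
theorem exists_common (h : Generic D) {d c : G} (hd : d ∈ D) (hc : c ∈ D) (hdc : ¬ Commute d c) :
    ∃ a, a ∈ perp D d ∩ perp D c := by
  obtain ⟨a, ha⟩ := h.perp_nonempty hd
  exact (Set.ncard_pos (Set.toFinite _)).1 (srg G D h d hd a ha c hc hdc _ _ _ rfl rfl rfl).1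

/-- No generic system has orthogonal neighbourhoods of dimension eight or more. -/
theorem no_orth (hS : SymStep.{u}) (hR : ReflStep.{u}) (h3 : ConvOPlusThree) (h2 : ConvOMinusTwo)
    (hn : CountRefl) : ∀ m : ℕ,
    (4 ≤ m → ∀ (G : Type u) [Group G] [Finite G] (D : Set G), Generic D → ∀ d ∈ D,
      ¬ IsOPlusT (sImg (perp D d)) m) ∧
    (3 ≤ m → ∀ (G : Type u) [Group G] [Finite G] (D : Set G), Generic D → ∀ d ∈ D,
      ¬ IsOMinusT (sImg (perp D d)) m) := by
  intro m
  induction m using Nat.strong_induction_on with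
  | _ m ih =>
    have hplus : 4 ≤ m → ∀ (G : Type u) [Group G] [Finite G] (D : Set G), Generic D → ∀ d ∈ D,
        ¬ IsOPlusT (sImg (perp D d)) m := by
      intro hm G _ _ D h d hd hE
      obtain ⟨c, hc, hdc⟩ := exists_not_commute h hd
      obtain ⟨j, rfl⟩ : ∃ j, m = j + 2 := ⟨m - 2, by omega⟩
      have hall := fun a ha => comps h (goodOrth.2 j (by omega))
        (fun p hp q hq => localOrth.1 j (by omega) p hp q hq) hd hE hc hdc (a := a) ha
      obtain ⟨a, ha⟩ := exists_common h hd hc hdc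
      obtain ⟨hgen, -, q, hq, hnb⟩ := hall a ha
      rcases Nat.lt_or_ge j 3 with hj | hj
      · obtain rfl : j = 2 := by omega
        obtain ⟨hk, p, hp, hl⟩ := params_oPlus_four
        refine false_of_count h hd hE hc hdc hk hp hl (n := 117) (fun a ha => ?_) (by decide)
        obtain ⟨hgen, hsz, q, hq, hnb⟩ := hall a ha
        rw [← hsz, ncard_dIso (hR _ _ hgen q hq 5 (-1) le_rfl (Or.inr rfl) (hnb.trans h2))]
        exact hn.2.2.2.1
      · exact (ih j (by omega)).2 hj _ _ hgen q hq hnb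
    refine ⟨hplus, fun hm G _ _ D h d hd hE => ?_⟩
    obtain ⟨c, hc, hdc⟩ := exists_not_commute h hd
    have hall := fun a ha => comps h (goodOrth.1 m hm)
      (fun p hp q hq => localOrth.2 m hm p hp q hq) hd hE hc hdc (a := a) ha
    obtain ⟨a, ha⟩ := exists_common h hd hc hdc
    obtain ⟨hgen, -, q, hq, hnb⟩ := hall a ha
    rcases Nat.lt_or_ge m 4 with hm' | hm'
    · obtain rfl : m = 3 := by omega
      obtain ⟨hk, p, hp, hl⟩ := params_oMinus_three
      refine false_of_count h hd hE hc hdc hk hp hl (n := 45) (fun a ha => ?_) (by decide)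
      obtain ⟨hgen, hsz, q, hq, hnb⟩ := hall a ha
      rw [← hsz, ncard_dIso (hS _ _ hgen q hq 8 (by norm_num) (by norm_num) (hnb.trans h3))]
      exact ncard_symD_ten
    · exact hplus hm' _ _ hgen q hq hnb

end CfsgLib.FischerThm.Orth
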