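import Cfsg.Agent.FischerThm.Orth.Transvections

/-!
# Fischer's theorem, orthogonal cases: the common neighbours of a non-commuting pair of transvections
-/

set_option autoImplicit false
set_option linter.unusedSectionVars false

namespace CfsgLib.FischerThm.Orth

open Module QuadraticMap CfsgLib.Dickson CfsgLib.FormTranspositions CfsgLib.FischerTypes

variable {V : Type*} [AddCommGroup V] [Module (ZMod 2) V] [FiniteDimensional (ZMod 2) V]
  {Q : QuadraticForm (ZMod 2) V}

theorem exists_three (hQ : (polarBilin Q).Nondegenerate) (h7 : 7 ≤ finrank (ZMod 2) V) {x y y' : V}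
    (hind : LinearIndependent (ZMod 2) ![x, y, y']) :
    ∃ w, Q w = 1 ∧ polar Q x w = 1 ∧ polar Q y w = 1 ∧ polar Q y' w = 1 := by
  let f : V →ₗ[ZMod 2] (Fin 3 → ZMod 2) := LinearMap.pi fun i => polarBilin Q (![x, y, y'] i)
  have hf : Function.Surjective f := by
    rw [← LinearMap.range_eq_top, ← Submodule.dualAnnihilator_eq_bot_iff, eq_bot_iff]
    intro φ hφ
    rw [Submodule.mem_dualAnnihilator] at hφ
    rw [Submodule.mem_bot]
    have hcomb : ∑ i, φ (Pi.single i 1) • ![x, y, y'] i = 0 := hQ.1 _ fun u => by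
      have hu := hφ (f u) (LinearMap.mem_range_self f u)
      rw [pi_eq_sum_univ' (f u), map_sum] at hu
      rw [map_sum, LinearMap.sum_apply, ← hu]
      refine Finset.sum_congr rfl fun i _ => ?_
      rw [map_smul, LinearMap.smul_apply, map_smul, smul_eq_mul, smul_eq_mul, mul_comm]
      rfl
    have h0 := Fintype.linearIndependent_iff.1 hind _ hcomb
    exact (Pi.basisFun (ZMod 2) (Fin 3)).ext fun i => by rw [Pi.basisFun_apply]; exact h0 i
  obtain ⟨z, hz⟩ := hf fun _ => 1
  have hzi : ∀ i, polar Q (![x, y, y'] i) z = 1 := fun i => congrFun hz i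
  by_contra! hno
  have hQ0 : ∀ s ∈ LinearMap.ker f, Q (z + s) = 0 := fun s hs => by
    have hsi : ∀ i, polar Q (![x, y, y'] i) (z + s) = 1 := fun i => by
      rw [polar_add_right, hzi, show polar Q (![x, y, y'] i) s = 0 from congrFun (LinearMap.mem_ker.1 hs) i, add_zero]
    exact (zmod_two_cases _).resolve_right fun h => hno _ h (hsi 0) (hsi 1) (hsi 2)
  have hQz : Q z = 0 := by simpa using hQ0 0 (Submodule.zero_mem _)
  have hS : ∀ w ∈ LinearMap.ker f, Q w = polar Q z w := fun w hw => by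
    have := hQ0 w hw
    rw [map_add_eq, hQz, zero_add] at this
    exact CharTwo.add_eq_zero.1 this
  have horth : ∀ u ∈ LinearMap.ker f, ∀ w ∈ LinearMap.ker f, polar Q u w = 0 := by
    intro u hu w hw
    have := hS (u + w) (add_mem hu hw)
    rw [map_add_eq, hS u hu, hS w hw, polar_add_right] at this
    exact add_eq_left.1 this
  let g : V →ₗ[ZMod 2] Module.Dual (ZMod 2) ↥(LinearMap.ker f) :=
    (LinearMap.ker f).subtype.dualMap.comp (polarBilin Q)
  have hle : LinearMap.ker f ≤ LinearMap.ker g := fun u hu => LinearMap.ext fun w => horth u hu w.1 w.2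
  have hgsur : Function.Surjective g := by
    intro φ
    obtain ⟨ψ, hψ⟩ := LinearMap.exists_extend φ
    obtain ⟨k, hk⟩ := polar_surjective hQ ψ
    exact ⟨k, LinearMap.ext fun w => by rw [← hψ]; exact hk w.1⟩
  have h2 := LinearMap.finrank_range_add_finrank_ker g
  rw [LinearMap.range_eq_top.2 hgsur, finrank_top, Subspace.dual_finrank_eq] at h2
  have h3 := Submodule.finrank_mono hle
  have h4 := LinearMap.finrank_range_add_finrank_ker f
  rw [LinearMap.range_eq_top.2 hf, finrank_top, Module.finrank_fintype_fun_eq_card, Fintype.card_fin] at h4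
  omega

theorem exists_move_pair (hQ : (polarBilin Q).Nondegenerate) (h7 : 7 ≤ finrank (ZMod 2) V) {x y x' y' : V}
    (hx : Q x = 1) (hy : Q y = 1) (hxy : polar Q x y = 1) (hx' : Q x' = 1) (hy' : Q y' = 1)
    (hxy' : polar Q x' y' = 1) :
    ∃ g : orth Q, (g : V ≃ₗ[ZMod 2] V) x = x' ∧ (g : V ≃ₗ[ZMod 2] V) y = y' := by
  obtain ⟨g, rfl⟩ := exists_move hQ (by omega) hx hx'
  set z := (g : V ≃ₗ[ZMod 2] V) y
  set x₁ := (g : V ≃ₗ[ZMod 2] V) x
  have hz : Q z = 1 := by rw [g.2, hy]
  have hzx : polar Q x₁ z = 1 := by rw [polar_map, hxy]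
  suffices h : ∃ k : orth Q, (k : V ≃ₗ[ZMod 2] V) x₁ = x₁ ∧ (k : V ≃ₗ[ZMod 2] V) z = y' by
    obtain ⟨k, hk1, hk2⟩ := h
    exact ⟨k * g, hk1, hk2⟩
  have step : ∀ {u v : V}, Q u = 1 → Q v = 1 → polar Q x₁ u = 1 → polar Q x₁ v = 1 → polar Q u v = 1 →
      ∃ k : orth Q, (k : V ≃ₗ[ZMod 2] V) x₁ = x₁ ∧ (k : V ≃ₗ[ZMod 2] V) u = v := by
    intro u v hu hv hxu hxv huv
    refine ⟨refl (u + v) (Q_add_self hu hv huv), ?_, ?_⟩
    · rw [refl_apply, polar_add_left, polar_comm Q u, hxu, polar_comm Q v, hxv, CharTwo.add_self_eq_zero,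
        zero_smul, add_zero]
    · rw [refl_apply, polar_add_left, polar_self_zero, zero_add, polar_comm, huv, one_smul, ← add_assoc,
        Dickson.add_self (F := ZMod 2), zero_add]
  by_cases hzy : z = y'
  · exact ⟨1, rfl, by rw [← hzy]; rfl⟩
  rcases zmod_two_cases (polar Q z y') with h0 | h0
  swap
  · exact step hz hy' hzx hxy' h0
  have hind : LinearIndependent (ZMod 2) ![x₁, z, y'] := by
    refine Fintype.linearIndependent_iff.2 fun c hc => ?_
    simp only [Fin.sum_univ_three, Matrix.cons_val_zero, Matrix.cons_val_one, Matrix.cons_val_two,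
      Matrix.head_cons, Matrix.tail_cons] at hc
    have hx₁0 : x₁ ≠ 0 := fun e => by rw [e, QuadraticMap.map_zero] at hx'; exact zero_ne_one hx'
    have e1 : c 0 = 0 := by
      have := congrArg (fun u => polar Q u z) hc
      simpa [polar_add_left, polar_smul_left, hzx, polar_self_zero, CharTwo.two_eq_zero, polar_comm Q y' z, h0] using this
    have e12 : c 1 + c 2 = 0 := by
      have := congrArg (fun u => polar Q u x₁) hc
      simpa [polar_add_left, polar_smul_left, polar_self_zero, CharTwo.two_eq_zero, polar_comm Q z x₁, hzx, polar_comm Q y' x₁, hxy']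
        using this
    rw [e1, zero_smul, zero_add] at hc
    have e2 : c 1 = 0 := (zmod_two_cases _).resolve_right fun h => hzy (by
      rw [h] at e12 hc
      rw [(zmod_two_cases (c 2)).resolve_left (fun h2 => by rw [h2, add_zero] at e12; exact one_ne_zero e12),
        one_smul, one_smul] at hc
      exact (Dickson.add_eq_zero_iff (F := ZMod 2)).1 hc)
    rw [e2, zero_add] at e12
    intro i
    fin_cases i <;> assumption
  obtain ⟨w, hw, h1, h2, h3⟩ := exists_three hQ h7 hind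
  obtain ⟨k₁, a1, a2⟩ := step hz hw hzx h1 h2
  obtain ⟨k₂, b1, b2⟩ := step hw hy' h1 hxy' (by rw [polar_comm]; exact h3)
  exact ⟨k₂ * k₁, by rw [Dickson.mul_apply, a1, b1], by rw [Dickson.mul_apply, a2, b2]⟩

variable {W : Type*} [AddCommGroup W] [Module (ZMod 2) W] [FiniteDimensional (ZMod 2) W]
  {P : QuadraticForm (ZMod 2) W}

/-- **The local system.** -/
theorem local_model (hQ : (polarBilin Q).Nondegenerate) (h7 : 7 ≤ finrank (ZMod 2) V)
    (hP : (polarBilin P).Nondegenerate) (h5 : 5 ≤ finrank (ZMod 2) W)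
    (hdim : finrank (ZMod 2) V = finrank (ZMod 2) W + 2) (ψ : W →ₗ[ZMod 2] V) (hψ : ∀ w, Q (ψ w) = P w)
    {x y : V} (hx : Q x = 1) (hy : Q y = 1) (hxy : polar Q x y = 1) (hxψ : ∀ w, polar Q x (ψ w) = 0)
    (hyψ : ∀ w, polar Q y (ψ w) = 0) {G : Type*} [Group G] {D : Set G} (e : G ≃* orth Q)
    (he : e '' D = rset Q) {a b : G} (ha : a ∈ D) (hb : b ∈ D) (hab : ¬ Commute a b) :
    DIso (sImg (perp D a ∩ perp D b)) (rset P) := by
  have hψp : ∀ u w, polar Q (ψ u) (ψ w) = polar P u w := fun u w => by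
    simp only [polar, ← map_add, hψ]
  have hyx : polar Q y x = 1 := by rw [polar_comm]; exact hxy
  have hψi : Function.Injective ψ := (injective_iff_map_eq_zero _).2 fun w hw => hP.1 w fun u => by
    show polar P w u = 0
    rw [← hψp, hw]
    simp [polar, QuadraticMap.map_zero]
  let Φ₀ : (W × (ZMod 2 × ZMod 2)) →ₗ[ZMod 2] V :=
    ψ.coprod ((LinearMap.toSpanSingleton _ _ x).coprod (LinearMap.toSpanSingleton _ _ y))
  have hΦ : ∀ w s t, Φ₀ (w, (s, t)) = ψ w + (s • x + t • y) := fun w s t => rfl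
  have hi : Function.Injective Φ₀ := (injective_iff_map_eq_zero _).2 fun ⟨w, s, t⟩ hw => by
    rw [hΦ] at hw
    have h1 := congrArg (fun u => polar Q x u) hw
    have h2 := congrArg (fun u => polar Q y u) hw
    simp [polar_add_right, polar_smul_right, hxψ, hyψ, hxy, hyx, polar_self_zero, CharTwo.two_eq_zero, polar_zero_right] at h1 h2
    rw [h2, h1, zero_smul, zero_smul, add_zero, add_zero] at hw
    rw [Prod.mk_eq_zero, Prod.mk_eq_zero]
    exact ⟨hψi (hw.trans ψ.map_zero.symm), h2, h1⟩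
  let Φ := LinearEquiv.ofInjectiveOfFinrankEq Φ₀ hi
    (by rw [Module.finrank_prod, Module.finrank_prod, Module.finrank_self, hdim])
  have hΦ' : ∀ w s t, Φ (w, (s, t)) = ψ w + (s • x + t • y) := fun w s t => rfl
  have hQΦ : ∀ p, Q (Φ p) = P p.1 + Q (p.2.1 • x + p.2.2 • y) := fun ⟨w, s, t⟩ => by
    rw [hΦ', map_add_eq, hψ, polar_add_right, polar_smul_right, polar_smul_right, polar_comm Q (ψ w) x, hxψ,
      polar_comm Q (ψ w) y, hyψ, smul_zero, smul_zero, add_zero, add_zero]
  -- extension of isometries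
  let ext : orth P →* orth Q :=
    { toFun := fun k => ⟨Φ.symm.trans (((k : W ≃ₗ[ZMod 2] W).prodCongr (LinearEquiv.refl _ _)).trans Φ), fun v => by
        obtain ⟨p, rfl⟩ := Φ.surjective v
        simp only [LinearEquiv.trans_apply, LinearEquiv.symm_apply_apply]
        rw [hQΦ, hQΦ]
        show P ((k : W ≃ₗ[ZMod 2] W) p.1) + _ = _
        rw [k.2]
        rfl⟩
      map_one' := Subtype.ext (LinearEquiv.ext fun v => by
        show Φ (Φ.symm v) = v
        exact Φ.apply_symm_apply v)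
      map_mul' := fun k l => Subtype.ext (LinearEquiv.ext fun v => by
        refine Eq.trans ?_ (congrArg (fun z => Φ ((k : W ≃ₗ[ZMod 2] W).prodCongr (LinearEquiv.refl _ _) z))
          (Φ.symm_apply_apply ((l : W ≃ₗ[ZMod 2] W).prodCongr (LinearEquiv.refl _ _) (Φ.symm v))).symm)
        rfl) }
  have hext : ∀ k p, ((ext k : orth Q) : V ≃ₗ[ZMod 2] V) (Φ p) = Φ ((k : W ≃ₗ[ZMod 2] W) p.1, p.2) := fun k p => by
    show Φ (((k : W ≃ₗ[ZMod 2] W).prodCongr (LinearEquiv.refl _ _)) (Φ.symm (Φ p))) = _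
    rw [Φ.symm_apply_apply]
    rfl
  have hexti : Function.Injective ext := fun k l h => Subtype.ext (LinearEquiv.ext fun w => by
    have h1 : ((ext k : orth Q) : V ≃ₗ[ZMod 2] V) (Φ (w, 0)) = ((ext l : orth Q) : V ≃ₗ[ZMod 2] V) (Φ (w, 0)) := by
      rw [h]
    rw [hext, hext] at h1
    exact congrArg Prod.fst (Φ.injective h1))
  have hrefl : ∀ (w : W) (hw : P w = 1), ext (refl w hw) = refl (ψ w) ((hψ w).trans hw) := fun w hw =>
    Subtype.ext (LinearEquiv.ext fun v => by
      obtain ⟨⟨u, s, t⟩, rfl⟩ := Φ.surjective v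
      rw [hext, refl_apply, refl_apply, hΦ', hΦ', polar_add_right, polar_add_right, polar_smul_right,
        polar_smul_right, polar_comm Q (ψ w) x, hxψ, polar_comm Q (ψ w) y, hyψ, smul_zero, smul_zero, add_zero,
        add_zero, hψp, map_add, map_smul]
      abel)
  -- move the pair
  obtain ⟨u, hu, hau⟩ := (mem_rset hQ).1 (he ▸ Set.mem_image_of_mem e ha)
  obtain ⟨v, hv, hbv⟩ := (mem_rset hQ).1 (he ▸ Set.mem_image_of_mem e hb)
  have huv : polar Q u v = 1 := (zmod_two_cases _).resolve_left fun h => hab (by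
    have := ((refl_commute_iff hQ hu hv).2 h).map e.symm
    rwa [← hau, ← hbv, e.symm_apply_apply, e.symm_apply_apply] at this)
  obtain ⟨g, hgx, hgy⟩ := exists_move_pair hQ h7 hx hy hxy hu hv huv
  let φ : orth P →* G := (e.symm.toMonoidHom.comp (MulAut.conj g).toMonoidHom).comp ext
  have hφ : Function.Injective φ := e.symm.injective.comp ((MulAut.conj g).injective.comp hexti)
  suffices hset : perp D a ∩ perp D b = φ '' rset P by
    rw [hset]
    exact dIso_sImg_image φ hφ _ (orth_three_transposition_class hP h5).2.2 (center_eq_bot hP h5)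
  have hgr : ∀ (w : W) (hw : P w = 1), e (φ (refl w hw)) =
      refl ((g : V ≃ₗ[ZMod 2] V) (ψ w)) (by rw [g.2, hψ, hw]) := fun w hw => by
    show e (e.symm (g * ext (refl w hw) * g⁻¹)) = _
    rw [e.apply_symm_apply, hrefl, conj_refl]
  apply Set.Subset.antisymm
  · rintro c ⟨⟨hc, hca, hcc⟩, ⟨-, hcb, hcc'⟩⟩
    obtain ⟨z, hz, hcz⟩ := (mem_rset hQ).1 (he ▸ Set.mem_image_of_mem e hc)
    have p1 : polar Q u z = 0 := (refl_commute_iff hQ hu hz).1 (by rw [← hau, ← hcz]; exact hcc.map e)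
    have p2 : polar Q v z = 0 := (refl_commute_iff hQ hv hz).1 (by rw [← hbv, ← hcz]; exact hcc'.map e)
    obtain ⟨z₀, rfl⟩ := (g : V ≃ₗ[ZMod 2] V).surjective z
    obtain ⟨⟨w, s, t⟩, rfl⟩ := Φ.surjective z₀
    rw [← hgx, polar_map, hΦ'] at p1
    rw [← hgy, polar_map, hΦ'] at p2
    simp [polar_add_right, polar_smul_right, hxψ, hyψ, hxy, hyx, polar_self_zero, CharTwo.two_eq_zero] at p1 p2
    have hzw : Φ (w, (s, t)) = ψ w := by rw [hΦ', p1, p2, zero_smul, zero_smul, add_zero, add_zero]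
    have hw : P w = 1 := by
      rw [← hψ, ← hzw, ← g.2]
      exact hz
    refine ⟨refl w hw, (mem_rset hP).2 ⟨w, hw, rfl⟩, e.injective ?_⟩
    rw [hgr, hcz]
    exact refl_congr _ _ (by rw [hzw])
  · rintro _ ⟨r, hr, rfl⟩
    obtain ⟨w, hw, rfl⟩ := (mem_rset hP).1 hr
    have hmem : φ (refl w hw) ∈ D := by
      have h1 : e (φ (refl w hw)) ∈ rset Q := (mem_rset hQ).2 ⟨_, _, hgr w hw⟩
      rw [← he] at h1
      exact e.injective.mem_set_image.1 h1
    have hne : ∀ {z : V} (hz : Q z = 1), polar Q z (ψ w) = 0 → (∃ z', polar Q z z' = 1 ∧ polar Q z' (ψ w) = 0) →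
        ∀ {c : G}, e c = refl ((g : V ≃ₗ[ZMod 2] V) z) (by rw [g.2, hz]) → φ (refl w hw) ≠ c ∧ Commute c (φ (refl w hw)) := by
      intro z hz hzw hz' c hc
      refine ⟨fun h => ?_, ?_⟩
      · have h1 := congrArg e h
        rw [hgr, hc] at h1
        have h2 := (g : V ≃ₗ[ZMod 2] V).injective (refl_inj hQ h1)
        obtain ⟨z', h3, h4⟩ := hz'
        rw [← h2, polar_comm, h4] at h3
        exact zero_ne_one h3
      · have h1 : Commute (e c) (e (φ (refl w hw))) := by
          rw [hgr, hc]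
          exact (refl_commute_iff hQ _ _).2 (by rw [polar_map, hzw])
        simpa using h1.map e.symm
    obtain ⟨n1, c1⟩ := hne hx (hxψ w) ⟨y, hxy, hyψ w⟩ (c := a) (by rw [hau]; exact refl_congr _ _ hgx.symm)
    obtain ⟨n2, c2⟩ := hne hy (hyψ w) ⟨x, hyx, hxψ w⟩ (c := b) (by rw [hbv]; exact refl_congr _ _ hgy.symm)
    exact ⟨⟨hmem, n1, c1⟩, ⟨hmem, n2, c2⟩⟩

end CfsgLib.FischerThm.Orth
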