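import Cfsg.Agent.FischerThm.Orth.Transfer
import Cfsg.Agent.FormTranspositions.Orthogonal

/-!
# Fischer's theorem, orthogonal cases: the system of orthogonal transvections
-/

set_option autoImplicit false
set_option linter.unusedSectionVars false

namespace CfsgLib.FischerThm.Orth

open Module QuadraticMap CfsgLib.Dickson CfsgLib.FormTranspositions CfsgLib.FischerTypes
open scoped Matrix

variable {V : Type*} [AddCommGroup V] [Module (ZMod 2) V] [FiniteDimensional (ZMod 2) V]
  {Q : QuadraticForm (ZMod 2) V}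

/-- The orthogonal transvections. -/
def rset (Q : QuadraticForm (ZMod 2) V) : Set (orth Q) :=
  {g | finrank (ZMod 2) (LinearMap.range (disp g)) = 1}

theorem mem_rset (hQ : (polarBilin Q).Nondegenerate) {g : orth Q} :
    g ∈ rset Q ↔ ∃ x, ∃ hx : Q x = 1, g = refl x hx :=
  ⟨exists_refl_of_finrank hQ g, by rintro ⟨x, hx, rfl⟩; exact finrank_disp_refl hQ x hx⟩

theorem refl_inj (hQ : (polarBilin Q).Nondegenerate) {x y : V} {hx : Q x = 1} {hy : Q y = 1}
    (h : refl x hx = (refl y hy : orth Q)) : x = y := by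
  have hx0 : x ≠ 0 := fun e => by rw [e, QuadraticMap.map_zero] at hx; exact zero_ne_one hx
  obtain ⟨u, hu⟩ : ∃ u, polar Q x u ≠ 0 := by
    by_contra! h0
    exact hx0 (hQ.1 x h0)
  have h1 : disp (refl x hx : orth Q) u = disp (refl y hy : orth Q) u := by rw [h]
  rw [disp_refl, disp_refl, (zmod_two_cases _).resolve_left hu, one_smul] at h1
  rcases zmod_two_cases (polar Q y u) with e | e <;> rw [e] at h1
  · rw [zero_smul] at h1; exact absurd h1 hx0
  · rwa [one_smul] at h1

theorem refl_commute_iff (hQ : (polarBilin Q).Nondegenerate) {x y : V} (hx : Q x = 1) (hy : Q y = 1) :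
    Commute (refl x hx : orth Q) (refl y hy) ↔ polar Q x y = 0 := by
  have e := refl_conj_refl (Q := Q) hx hy
  have hx0 : x ≠ 0 := fun e => by rw [e, QuadraticMap.map_zero] at hx; exact zero_ne_one hx
  constructor
  · intro h
    rw [h.eq, mul_assoc, refl_mul_self, mul_one] at e
    have h1 := refl_inj hQ e
    rcases zmod_two_cases (polar Q x y) with h2 | h2
    · exact h2
    · rw [h2, one_smul, left_eq_add] at h1; exact absurd h1 hx0
  · intro h
    rw [refl_congr _ hy (show y + polar Q x y • x = y by rw [h, zero_smul, add_zero])] at e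
    have := congrArg (· * refl (Q := Q) x hx) e
    simp only [mul_assoc, refl_mul_self, mul_one] at this
    exact this

theorem exists_value (hQ : (polarBilin Q).Nondegenerate) (h5 : 5 ≤ finrank (ZMod 2) V) {x y : V}
    (hx : Q x = 1) (hy : Q y = 1) (hxy : x ≠ y) :
    ∃ z, Q z = 1 ∧ polar Q z x = 1 ∧ polar Q z y = 0 := by
  have hx0 : x ≠ 0 := fun e => by rw [e, QuadraticMap.map_zero] at hx; exact zero_ne_one hx
  have hy0 : y ≠ 0 := fun e => by rw [e, QuadraticMap.map_zero] at hy; exact zero_ne_one hy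
  obtain ⟨z, hz, h1, h2⟩ := exists_linked hQ h5 (y := x + y) hx0
    (fun e => hxy ((Dickson.add_eq_zero_iff (F := ZMod 2)).1 e)) (fun e => hy0 (left_eq_add.1 e))
  rw [polar_add_right, polar_comm Q z x, h1] at h2
  exact ⟨z, hz, by rw [polar_comm]; exact h1, add_eq_left.1 h2⟩

theorem exists_perp_one (hQ : (polarBilin Q).Nondegenerate) (h5 : 5 ≤ finrank (ZMod 2) V) {x : V}
    (hx : Q x = 1) : ∃ z, Q z = 1 ∧ polar Q x z = 0 ∧ z ≠ x := by
  have hx0 : x ≠ 0 := fun e => by rw [e, QuadraticMap.map_zero] at hx; exact zero_ne_one hx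
  have hk := LinearMap.finrank_range_add_finrank_ker (polarBilin Q x)
  have hle : finrank (ZMod 2) (LinearMap.range (polarBilin Q x)) ≤ 1 := by
    simpa using Submodule.finrank_le (LinearMap.range (polarBilin Q x))
  obtain ⟨u, hu, hux⟩ : ∃ u ∈ LinearMap.ker (polarBilin Q x), u ∉ ZMod 2 ∙ x := by
    by_contra! h
    have := Submodule.finrank_mono (show LinearMap.ker (polarBilin Q x) ≤ ZMod 2 ∙ x from h)
    rw [finrank_span_singleton hx0] at this
    omega
  have hu' : polar Q x u = 0 := hu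
  have hu0 : u ≠ 0 := fun e => hux (by rw [e]; exact Submodule.zero_mem _)
  have hux' : u ≠ x := fun e => hux (by rw [e]; exact Submodule.mem_span_singleton_self x)
  obtain ⟨z, hz, h1, h2⟩ := exists_linked hQ h5 (x := u) (y := u + x) hu0
    (fun e => hux' ((Dickson.add_eq_zero_iff (F := ZMod 2)).1 e)) (fun e => hx0 (left_eq_add.1 e))
  rw [polar_add_right, polar_comm Q z u, h1] at h2
  refine ⟨z, hz, by rw [polar_comm]; exact add_eq_left.1 h2, fun e => ?_⟩
  rw [e, polar_comm Q u x, hu'] at h1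
  exact zero_ne_one h1

theorem exists_add_one (hQ : (polarBilin Q).Nondegenerate) (h5 : 5 ≤ finrank (ZMod 2) V) (v : V) :
    ∃ y z, Q y = 1 ∧ Q z = 1 ∧ v = y + z ∨ Q v = 1 ∨ v = 0 := by
  by_cases hv : v = 0
  · exact ⟨v, v, Or.inr (Or.inr hv)⟩
  rcases zmod_two_cases (Q v) with hQv | hQv
  swap
  · exact ⟨v, v, Or.inr (Or.inl hQv)⟩
  obtain ⟨x, hx⟩ := exists_Q_one hQ h5
  have hx0 : x ≠ 0 := fun e => by rw [e, QuadraticMap.map_zero] at hx; exact zero_ne_one hx
  have hxv : x ≠ v := fun e => by rw [e, hQv] at hx; exact zero_ne_one hx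
  rcases zmod_two_cases (polar Q x v) with h | h
  · refine ⟨x, x + v, Or.inl ⟨hx, by rw [map_add_eq, hx, hQv, h]; decide, ?_⟩⟩
    rw [← add_assoc, Dickson.add_self (F := ZMod 2), zero_add]
  · obtain ⟨w, hw, h1, h2⟩ := exists_linked hQ h5 hx0 hv hxv
    have hz : Q (x + w) = 1 := Q_add_self hx hw h1
    refine ⟨x + w, x + w + v, Or.inl ⟨hz, ?_, ?_⟩⟩
    · rw [map_add_eq, hz, hQv, polar_add_left, h, h2]; decide
    · rw [← add_assoc, Dickson.add_self (F := ZMod 2), zero_add]

/-- A non-zero singular vector orthogonal to two given vectors. -/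
theorem exists_singular_perp (h5 : 5 ≤ finrank (ZMod 2) V) (x y : V) :
    ∃ s, s ≠ 0 ∧ Q s = 0 ∧ polar Q x s = 0 ∧ polar Q y s = 0 := by
  let f : V →ₗ[ZMod 2] ZMod 2 × ZMod 2 := (polarBilin Q x).prod (polarBilin Q y)
  have h3 : 3 ≤ finrank (ZMod 2) (LinearMap.ker f) := by
    have h := LinearMap.finrank_range_add_finrank_ker f
    have hle := Submodule.finrank_le (LinearMap.range f)
    rw [Module.finrank_prod, Module.finrank_self] at hle
    omega
  obtain ⟨v, hv⟩ := exists_linearIndependent_of_le_finrank h3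
  have hne : ∀ c : Fin 3 → ZMod 2, c ≠ 0 → ((∑ i, c i • v i : LinearMap.ker f) : V) ≠ 0 := fun c hc h =>
    hc (funext (Fintype.linearIndependent_iff.1 hv c (Subtype.ext h)))
  by_contra! hall
  have h1 : ∀ c : Fin 3 → ZMod 2, c ≠ 0 → Q ((∑ i, c i • v i : LinearMap.ker f) : V) = 1 := fun c hc => by
    have hm := (∑ i, c i • v i : LinearMap.ker f).2
    refine (zmod_two_cases _).resolve_left fun h0 => hall _ (hne c hc) h0 ?_ ?_
    · exact congrArg Prod.fst hm
    · exact congrArg Prod.snd hm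
  have a0 := h1 ![1, 0, 0] (by decide)
  have a1 := h1 ![0, 1, 0] (by decide)
  have a2 := h1 ![0, 0, 1] (by decide)
  have a01 := h1 ![1, 1, 0] (by decide)
  have a02 := h1 ![1, 0, 1] (by decide)
  have a12 := h1 ![0, 1, 1] (by decide)
  have a012 := h1 ![1, 1, 1] (by decide)
  simp [Fin.sum_univ_three, map_add_eq, QuadraticMap.polar_add_left] at a0 a1 a2 a01 a02 a12 a012
  rw [a0, a1, a2] at a012
  rw [a0, a1] at a01
  rw [a0, a2] at a02
  rw [a1, a2] at a12
  revert a01 a02 a12 a012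
  generalize polar Q (v 0 : V) (v 1 : V) = p, polar Q (v 0 : V) (v 2 : V) = q, polar Q (v 1 : V) (v 2 : V) = t
  revert p q t
  decide

/-- An element commuting with all transvections is trivial. -/
theorem eq_one_of_central (hQ : (polarBilin Q).Nondegenerate) (h5 : 5 ≤ finrank (ZMod 2) V) {g : orth Q}
    (hg : ∀ r ∈ rset Q, g * r = r * g) : g = 1 := by
  have hfix : ∀ x, Q x = 1 → (g : V ≃ₗ[ZMod 2] V) x = x := fun x hx => by
    have h1 := hg _ ((mem_rset hQ).2 ⟨x, hx, rfl⟩)
    have h2 : g * refl x hx * g⁻¹ = refl x hx := by rw [h1, mul_inv_cancel_right]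
    rw [conj_refl] at h2
    exact refl_inj hQ h2
  refine Subtype.ext (LinearEquiv.ext fun v => ?_)
  obtain ⟨y, z, ⟨hy, hz, rfl⟩ | hv | rfl⟩ := exists_add_one hQ h5 v
  · rw [map_add, hfix y hy, hfix z hz]; rfl
  · exact hfix v hv
  · rw [map_zero]; rfl

theorem center_eq_bot (hQ : (polarBilin Q).Nondegenerate) (h5 : 5 ≤ finrank (ZMod 2) V) :
    Subgroup.center (orth Q) = ⊥ :=
  (Subgroup.eq_bot_iff_forall _).2 fun g hg =>
    eq_one_of_central hQ h5 fun r _ => (Subgroup.mem_center_iff.1 hg r).symm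

theorem orderOf_three (hQ : (polarBilin Q).Nondegenerate) {x y : V} (hx : Q x = 1) (hy : Q y = 1)
    (h : polar Q x y = 1) : orderOf (refl x hx * refl y hy : orth Q) = 3 := by
  have hnc : ¬ Commute (refl x hx : orth Q) (refl y hy) := fun hc => by
    rw [(refl_commute_iff hQ hx hy).1 hc] at h; exact zero_ne_one h
  haveI : Fact (Nat.Prime 3) := ⟨Nat.prime_three⟩
  refine orderOf_eq_prime ?_ fun h1 => hnc ?_
  · refine (refl_sq_or_cube x y hx hy).resolve_left fun h2 => hnc ?_
    rw [pow_two, mul_eq_one_iff_eq_inv, mul_inv_rev, refl_inv, refl_inv] at h2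
    exact h2
  · rw [mul_eq_one_iff_eq_inv, refl_inv] at h1
    rw [h1]

theorem orderOf_two (hQ : (polarBilin Q).Nondegenerate) {x y : V} (hx : Q x = 1) (hy : Q y = 1)
    (h : polar Q x y = 0) (hne : x ≠ y) : orderOf (refl x hx * refl y hy : orth Q) = 2 := by
  refine orderOf_eq_prime ?_ fun h1 => hne ?_
  · rw [((refl_commute_iff hQ hx hy).2 h).mul_pow, pow_two, pow_two, refl_mul_self, refl_mul_self, one_mul]
  · rw [mul_eq_one_iff_eq_inv, refl_inv] at h1
    exact refl_inj hQ h1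

theorem not_dvd_of_pgroup {p r : ℕ} {H : Type*} [Group H] {N : Subgroup H} (hN : IsPGroup p N) {g : H}
    (hg : g ∈ N) (hr : orderOf g = r) (hrp : r.Prime) (hpp : p.Prime) : r = p := by
  obtain ⟨k, hk⟩ := hN ⟨g, hg⟩
  have h1 : orderOf g ∣ p ^ k := orderOf_dvd_of_pow_eq_one (congrArg Subtype.val hk)
  rw [hr] at h1
  exact (Nat.prime_dvd_prime_iff_eq hrp hpp).1 (hrp.dvd_of_dvd_pow h1)

/-- No normal subgroup is a non-trivial group of prime power order. -/
theorem pgroup_eq_bot (hQ : (polarBilin Q).Nondegenerate) (h5 : 5 ≤ finrank (ZMod 2) V) {p : ℕ}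
    (hp : p.Prime) {N : Subgroup (orth Q)} (hN : N.Normal) (hNp : IsPGroup p N) : N = ⊥ := by
  refine (Subgroup.eq_bot_iff_forall _).2 fun n hn => eq_one_of_central hQ h5 fun r hr => ?_
  obtain ⟨x, hx, rfl⟩ := (mem_rset hQ).1 hr
  by_contra hne
  set y := (n : V ≃ₗ[ZMod 2] V) x with hy_def
  have hy : Q y = 1 := by rw [hy_def, n.2, hx]
  have hyx : y ≠ x := fun e => hne (by
    have h1 := conj_refl n x hx
    rw [refl_congr _ hx e] at h1
    exact mul_inv_eq_iff_eq_mul.1 h1)
  -- the equivalence "same image modulo `N`"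
  have rel : ∀ (u w : V) (hu : Q u = 1) (hw : Q w = 1), refl (Q := Q) u hu * refl w hw ∈ N →
      ∀ g : orth Q, ∀ (hu' : Q ((g : V ≃ₗ[ZMod 2] V) u) = 1) (hw' : Q ((g : V ≃ₗ[ZMod 2] V) w) = 1),
        refl (Q := Q) _ hu' * refl _ hw' ∈ N := fun u w hu hw h g hu' hw' => by
    rw [← conj_refl g u hu, ← conj_refl g w hw,
      show g * refl u hu * g⁻¹ * (g * refl w hw * g⁻¹) = g * (refl u hu * refl w hw) * g⁻¹ by group]
    exact hN.conj_mem _ h g
  have h0 : refl (Q := Q) y hy * refl x hx ∈ N := by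
    rw [← conj_refl n x hx]
    have := N.mul_mem hn (hN.conj_mem _ (N.inv_mem hn) (refl x hx))
    rwa [refl_inv, ← mul_assoc, ← mul_assoc] at this
  rcases zmod_two_cases (polar Q y x) with h | h
  · have e2 := not_dvd_of_pgroup hNp h0 (orderOf_two hQ hy hx h hyx) Nat.prime_two hp
    obtain ⟨w, hw, hwy, hwx⟩ := exists_value hQ h5 hy hx hyx
    have h1 := rel _ _ hy hx h0 (refl w hw) (by rw [(refl w hw).2, hy]) (by rw [(refl w hw).2, hx])
    have e : ((refl w hw : orth Q) : V ≃ₗ[ZMod 2] V) x = x := by rw [refl_apply, hwx, zero_smul, add_zero]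
    have e' : ((refl w hw : orth Q) : V ≃ₗ[ZMod 2] V) y = y + w := by rw [refl_apply, hwy, one_smul]
    have hyw : Q (y + w) = 1 := Q_add_self hy hw (by rw [polar_comm]; exact hwy)
    rw [refl_congr _ hx e, refl_congr _ hyw e'] at h1
    have h2 := N.mul_mem h0 (N.inv_mem h1)
    rw [mul_inv_rev, refl_inv, refl_inv, mul_assoc, ← mul_assoc (refl x hx) (refl x hx), refl_mul_self, one_mul] at h2
    have e3 := not_dvd_of_pgroup hNp h2 (orderOf_three hQ hy hyw
      (by rw [polar_add_right, polar_self_zero, zero_add, polar_comm, hwy])) Nat.prime_three hp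
    omega
  · have e3 := not_dvd_of_pgroup hNp h0 (orderOf_three hQ hy hx h) Nat.prime_three hp
    obtain ⟨s, hs0, hs, hys, hxs⟩ := exists_singular_perp (Q := Q) h5 y x
    obtain ⟨z, hz, hzy, hzx, hzne⟩ : ∃ z, Q z = 1 ∧ polar Q z y = 1 ∧ polar Q z x = 0 ∧ z ≠ x :=
      ⟨x + s, by rw [map_add_eq, hx, hs, hxs]; decide,
        by rw [polar_add_left, polar_comm Q x y, h, polar_comm Q s y, hys, add_zero],
        by rw [polar_add_left, polar_self_zero, polar_comm Q s x, hxs, add_zero],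
        fun e => hs0 (add_eq_left.1 e)⟩
    -- `y ∼ x`, hence `y + z ∼ x`, hence `y ∼ y + z`, hence `z ∼ x`
    have h1 := rel _ _ hy hx h0 (refl z hz) (by rw [(refl z hz).2, hy]) (by rw [(refl z hz).2, hx])
    have ez : ((refl z hz : orth Q) : V ≃ₗ[ZMod 2] V) x = x := by rw [refl_apply, hzx, zero_smul, add_zero]
    have ez' : ((refl z hz : orth Q) : V ≃ₗ[ZMod 2] V) y = y + z := by rw [refl_apply, hzy, one_smul]
    have hyz : Q (y + z) = 1 := Q_add_self hy hz (by rw [polar_comm]; exact hzy)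
    rw [refl_congr _ hx ez, refl_congr _ hyz ez'] at h1
    have h2 := N.mul_mem h0 (N.inv_mem h1)
    rw [mul_inv_rev, refl_inv, refl_inv, mul_assoc, ← mul_assoc (refl x hx) (refl x hx), refl_mul_self, one_mul] at h2
    have h3 := rel _ _ hy hyz h2 (refl y hy) (by rw [(refl y hy).2, hy]) (by rw [(refl y hy).2, hyz])
    have ey : ((refl y hy : orth Q) : V ≃ₗ[ZMod 2] V) y = y := by rw [refl_apply, polar_self_zero, zero_smul, add_zero]
    have ey' : ((refl y hy : orth Q) : V ≃ₗ[ZMod 2] V) (y + z) = z := by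
      rw [refl_apply, polar_add_right, polar_self_zero, zero_add, polar_comm, hzy, one_smul, add_comm y z,
        add_assoc, Dickson.add_self (F := ZMod 2), add_zero]
    rw [refl_congr _ hy ey, refl_congr _ hz ey'] at h3
    have h4 := N.mul_mem (N.inv_mem h3) h0
    rw [mul_inv_rev, refl_inv, refl_inv, mul_assoc, ← mul_assoc (refl y hy) (refl y hy), refl_mul_self, one_mul] at h4
    have e2 := not_dvd_of_pgroup hNp h4 (orderOf_two hQ hz hx hzx hzne) Nat.prime_two hp
    omega

theorem localGood_rset (hQ : (polarBilin Q).Nondegenerate) (h5 : 5 ≤ finrank (ZMod 2) V) :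
    LocalGood (rset Q) := by
  refine ⟨orth_three_transposition_class hQ h5, center_eq_bot hQ h5,
    pCore_eq_bot_iff.2 fun N hN hNp => pgroup_eq_bot hQ h5 Nat.prime_two hN hNp,
    pCore_eq_bot_iff.2 fun N hN hNp => pgroup_eq_bot hQ h5 Nat.prime_three hN hNp, ?_⟩
  obtain ⟨x, hx⟩ := exists_Q_one hQ h5
  obtain ⟨z, hz, hxz, hne⟩ := exists_perp_one hQ h5 hx
  exact ⟨refl x hx, finrank_disp_refl hQ x hx, refl z hz, finrank_disp_refl hQ z hz,
    fun e => hne (refl_inj hQ e), (refl_commute_iff hQ hx hz).2 hxz⟩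

variable {ι : Type} [Fintype ι] [DecidableEq ι]

/-- The transvections of a matrix isometry group. -/
def mset (f : (ι → ZMod 2) → ZMod 2) : Set ↥(Cfsg.isometryGroup (ZMod 2) f) :=
  {g | (((g : GL ι (ZMod 2)) : Matrix ι ι (ZMod 2)) - 1).rank = 1}

theorem dIso_mset (Q : QuadraticForm (ZMod 2) (ι → ZMod 2)) (f : (ι → ZMod 2) → ZMod 2) (hf : ⇑Q = f) :
    DIso (mset f) (rset Q) := by
  subst hf
  refine ⟨toOrth Q, Set.Subset.antisymm ?_ fun g hg => ?_⟩
  · rintro _ ⟨g, hg, rfl⟩
    show finrank (ZMod 2) (LinearMap.range (disp (toOrth Q g))) = 1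
    rw [← rank_eq_finrank_disp]
    exact hg
  · refine ⟨(toOrth Q).symm g, ?_, (toOrth Q).apply_symm_apply g⟩
    show _ = 1
    rw [rank_eq_finrank_disp, MulEquiv.apply_symm_apply]
    exact hg

end CfsgLib.FischerThm.Orth
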